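import Cfsg.Agent.Lib.AmalgamThree.CoreOneField
import Cfsg.Agent.Lib.GW.ConsDGroupTwo
import Cfsg.Agent.Lib.Involutions.QuasiDihedralClasses
import Cfsg.Agent.Lib.Involutions.QuasiDihedralSubgroups
import Cfsg.Agent.Lib.GW.MainFinal
import Cfsg.Agent.InvChar.Core
import Cfsg.Agent.Lib.Fusion.SylowTwoRankTwo
import Cfsg.Agent.S1240

/-!
A group with quasi-dihedral Sylow 2-subgroups, one class of involutions and involution centralizers
of order prime to three has order divisible by nine modulo every normal subgroup of odd order.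
-/

set_option autoImplicit false
set_option linter.unusedSectionVars false
set_option linter.style.haveILetI false

namespace Cfsg.Agent.AmalgamThree.CoreOne

open Subgroup Cfsg.Agent.Involutions.QuasiDihedral

universe u

/-- `A₇` has an element of order three commuting with an involution. -/
theorem altSeven_six : ∃ a b : alternatingGroup (Fin 7),
    orderOf a = 2 ∧ orderOf b = 3 ∧ a * b = b * a := by
  refine ⟨⟨Equiv.swap 0 1 * Equiv.swap 2 3, Equiv.Perm.mem_alternatingGroup.2 (by decide)⟩,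
    ⟨Equiv.swap 4 5 * Equiv.swap 5 6, Equiv.Perm.mem_alternatingGroup.2 (by decide)⟩,
    ?_, ?_, by decide⟩
  · exact orderOf_eq_prime (by decide) (by decide)
  · haveI : Fact (Nat.Prime 3) := ⟨Nat.prime_three⟩
    exact orderOf_eq_prime (by decide) (by decide)

variable {G : Type u} [Group G] [Finite G]

theorem gens_distinct {S : Type*} [Group S] (D : Gens S) :
    ¬ Commute (D.q 0) (D.q 2) := by
  rw [D.commute_q_q]
  have hn := D.hn
  have h4 : ((4 : ℕ) : ZMod (2 ^ D.n)) ≠ 0 := by
    rw [Ne, ZMod.natCast_eq_zero_iff]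
    intro h
    have := Nat.le_of_dvd (by norm_num) h
    have : 2 ^ 3 ≤ 2 ^ D.n := Nat.pow_le_pow_right two_pos hn
    omega
  push_cast at h4
  have h0 : (4 : ZMod (2 ^ D.n)) = 2 + 2 := by norm_num
  rintro (h | h)
  · exact h4 (by linear_combination -2 * h)
  · exact h4 (by linear_combination -2 * h - D.h_add_h)

/-- The case of trivial odd core. -/
theorem dvd_card_of_coreFree (hO : Cfsg.oddCore G = ⊥) (S : Sylow 2 G)
    (hS : Cfsg.IsQuasiDihedral (S : Subgroup G))
    (hone : ∀ a b : G, orderOf a = 2 → orderOf b = 2 → IsConj a b)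
    (t : G) (ht : orderOf t = 2) (h3 : ¬ 3 ∣ Nat.card (centralizer ({t} : Set G))) :
    9 ∣ Nat.card G := by
  haveI : Fact (Nat.Prime 2) := ⟨Nat.prime_two⟩
  -- no element of order three commutes with an involution
  have hno : ∀ a b : G, orderOf a = 2 → orderOf b = 3 → a * b ≠ b * a := by
    intro a b ha hb hab
    obtain ⟨c, hc⟩ := isConj_iff.1 (hone a t ha ht)
    refine h3 (hb ▸ ?_)
    have hm : c * b * c⁻¹ ∈ centralizer ({t} : Set G) := by
      rw [mem_centralizer_singleton_iff, ← hc]
      calc c * b * c⁻¹ * (c * a * c⁻¹) = c * (b * a) * c⁻¹ := by group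
        _ = c * (a * b) * c⁻¹ := by rw [hab]
        _ = c * a * c⁻¹ * (c * b * c⁻¹) := by group
    have := orderOf_dvd_natCard (⟨_, hm⟩ : centralizer ({t} : Set G))
    rwa [Subgroup.orderOf_mk, ← MulAut.conj_apply, MulEquiv.orderOf_eq] at this
  -- a subgroup of index two
  obtain ⟨Y, hY⟩ : ∃ Y : Subgroup G, Y.index = 2 := by
    by_contra hne
    push Not at hne
    obtain ⟨F, iF, iT, hodd, ⟨e⟩⟩ := S1240.result S (Or.inl hS) hne hone t ht
    refine h3 (dvd_trans ?_ ((Subgroup.card_subgroup_dvd_card (commutator (↥(centralizer ({t} : Set G)) ⧸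
        Cfsg.oddCore ↥(centralizer ({t} : Set G))))).trans (Subgroup.card_quotient_dvd_card (Cfsg.oddCore ↥(centralizer ({t} : Set G))))))
    rw [Nat.card_congr e.toEquiv]
    have hcard := Classical.SmallIso.natCard_pslTwo F
    have hq := Fintype.one_lt_card (α := F)
    rw [← hcard]
    have hfor := PSLOrderSpectrum.card_psl_two (F := F)
    rw [hfor]
    obtain ⟨k, hk⟩ : ∃ k, Fintype.card F = k + 1 := ⟨Fintype.card F - 1, by omega⟩
    rw [hk, show k + 1 - 1 = k by omega]
    have : k % 3 = 0 ∨ k % 3 = 1 ∨ k % 3 = 2 := by omega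
    rcases this with h | h | h
    · exact dvd_mul_of_dvd_right (dvd_mul_of_dvd_left (by omega) _) _
    · exact dvd_mul_of_dvd_right (dvd_mul_of_dvd_right (by omega) _) _
    · exact dvd_mul_of_dvd_left (by omega) _
  have hYn : Y.Normal := normal_of_index_eq_two hY
  obtain ⟨D⟩ := exists_gens hS
  have hn := D.hn
  -- all involutions lie in every nontrivial normal subgroup
  have hinvN : ∀ N : Subgroup G, N.Normal → N ≠ ⊥ → ∀ a : G, orderOf a = 2 → a ∈ N := by
    intro N hN hne a ha
    rcases Nat.even_or_odd (Nat.card N) with he | ho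
    · obtain ⟨c, hc⟩ := exists_prime_orderOf_dvd_card' (G := N) 2 (even_iff_two_dvd.1 he)
      rw [← Subgroup.orderOf_coe] at hc
      obtain ⟨g, hg⟩ := isConj_iff.1 (hone c a hc ha)
      exact hg ▸ hN.conj_mem _ c.2 g
    · exact absurd (le_bot_iff.1 (hO ▸ Cores.le_oddCore ho)) hne
  have hYne : Y ≠ ⊥ := by
    intro h
    rw [h, index_bot] at hY
    have h1 := Subgroup.card_subgroup_dvd_card (S : Subgroup G)
    rw [D.hcard, hY] at h1
    have := Nat.le_of_dvd two_pos h1
    have : 2 ^ 4 ≤ 2 ^ (D.n + 1) := Nat.pow_le_pow_right two_pos (by omega)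
    omega
  have hinvY := hinvN Y hYn hYne
  -- the involutions of `S` generate the dihedral subgroup
  have hqinv : ∀ i, Even i → orderOf (D.q i : G) = 2 := fun i hi => by
    rw [Subgroup.orderOf_coe]; exact D.orderOf_q_even hi
  have hhalf : ∀ N : Subgroup G, (∀ a : G, orderOf a = 2 → a ∈ N) →
      ∀ s : (S : Subgroup G), s ∈ D.half 0 → (s : G) ∈ N := by
    intro N hN s hs
    rw [← D.closure_involutions] at hs
    have hle : Subgroup.closure {s : (S : Subgroup G) | orderOf s = 2} ≤
        N.comap (S : Subgroup G).subtype := (Subgroup.closure_le _).2 fun x hx =>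
      hN (x : G) (by rw [Subgroup.orderOf_coe]; exact hx)
    exact hle hs
  obtain ⟨PY⟩ := (inferInstance : Nonempty (Sylow 2 Y))
  obtain ⟨e1⟩ := Involutions.QuasiDihedralClasses.sylow_equiv (D.index_half 0) hY (hhalf Y hinvY) PY
  obtain ⟨e2⟩ := D.half_zero_equiv
  have hn2 : 2 ≤ 2 ^ (D.n - 1) := Nat.le_self_pow (by omega) 2
  have hOY : Cfsg.oddCore Y = ⊥ := by
    rw [← Subgroup.map_eq_bot_iff_of_injective _ Y.subtype_injective, eq_bot_iff, ← hO]
    exact Cores.map_pPrimeCore_subtype_le 2 Y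
  -- the subgroup is not solvable
  have hns : ¬ Group.IsSolvable Y := by
    intro hsol
    obtain ⟨k, hk⟩ := (Group.isSolvable_def Y).1 hsol
    induction k with
    | zero =>
      rw [derivedSeries_zero] at hk
      exact hYne (by
        have h := congrArg (Subgroup.map Y.subtype) hk
        rwa [← MonoidHom.range_eq_map, Subgroup.range_subtype, Subgroup.map_bot] at h)
    | succ k ih =>
      by_cases hb : derivedSeries Y k = ⊥
      · exact ih hb
      set M : Subgroup G := (derivedSeries Y k).map Y.subtype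
      have hMne : M ≠ ⊥ := by
        rwa [Ne, Subgroup.map_eq_bot_iff_of_injective _ Y.subtype_injective]
      have hM : M.Normal := inferInstance
      have hq0 := hinvN M hM hMne _ (hqinv 0 ⟨0, by simp⟩)
      have hq2 := hinvN M hM hMne _ (hqinv 2 ⟨1, by ring⟩)
      obtain ⟨x, hx, hxe⟩ := hq0
      obtain ⟨y, hy, hye⟩ := hq2
      have hc : x * y = y * x := by
        rw [derivedSeries_succ, Subgroup.commutator_eq_bot_iff_le_centralizer] at hk
        exact (mem_centralizer_iff.1 (hk hy) x hx)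
      refine gens_distinct D (Subtype.ext ?_)
      show (D.q 0 : G) * D.q 2 = D.q 2 * D.q 0
      rw [← hxe, ← hye, ← map_mul, ← map_mul, hc]
  obtain ⟨L, hLn, hLC, hLL, -, hL⟩ :=
    GW.Cons.full_gw GW.perfectGW hOY PY hn2 (e1.trans e2) hns
  -- the component is normal in the whole group
  have hLne : L ≠ ⊥ := by
    rintro rfl
    apply hYne
    have htop : (⊤ : Subgroup Y) = ⊥ := by
      rw [← hLC]
      refine le_antisymm (fun y _ => mem_centralizer_iff.2 fun w hw => ?_) le_top
      rw [Subgroup.coe_bot, Set.mem_singleton_iff] at hw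
      rw [hw, one_mul, mul_one]
    have h := congrArg (Subgroup.map Y.subtype) htop
    rwa [← MonoidHom.range_eq_map, Subgroup.range_subtype, Subgroup.map_bot] at h
  have hsimp : IsSimpleGroup L := by
    rcases hL with ⟨F, iF, iT, -, h3F, ⟨e⟩⟩ | hA
    · have := TimesPSLTwo.psl_simple (F := F) h3F
      exact MulEquiv.isSimpleGroup e
    · obtain ⟨e⟩ := hA
      have : IsSimpleGroup (alternatingGroup (Fin 7)) := alternatingGroup.isSimpleGroup (by simp)
      exact MulEquiv.isSimpleGroup e
  have hLchar : ∀ g : G, L.map (MulAut.conjNormal g : MulAut Y).toMonoidHom ≤ L := by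
    intro g
    set L' := L.map (MulAut.conjNormal g : MulAut Y).toMonoidHom with hL'
    haveI : L'.Normal := hLn.map _ (MulAut.conjNormal g : MulAut Y).surjective
    have hc : Nat.card L' = Nat.card L :=
      Nat.card_congr (L.equivMapOfInjective _ (MulAut.conjNormal g : MulAut Y).injective).toEquiv.symm
    haveI : (L'.subgroupOf L).Normal := inferInstance
    rcases Subgroup.Normal.eq_bot_or_eq_top (H := L'.subgroupOf L) inferInstance with h | h
    · exfalso
      have hd : L' ⊓ L = ⊥ := by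
        rw [eq_bot_iff]
        intro x hx
        have : (⟨x, hx.2⟩ : L) ∈ L'.subgroupOf L := hx.1
        rw [h, mem_bot] at this
        exact mem_bot.2 (congrArg Subtype.val this)
      have hle : L' ≤ centralizer (L : Set Y) := fun x hx => mem_centralizer_iff.2 fun y hy => by
        exact (Subgroup.commute_of_normal_of_disjoint L' L inferInstance hLn
          (disjoint_iff.2 hd) x y hx hy).symm.eq
      rw [hLC, le_bot_iff] at hle
      exact hLne ((Subgroup.map_eq_bot_iff_of_injective _ (MulAut.conjNormal g : MulAut Y).injective).1 hle)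
    · exact le_of_eq (Subgroup.eq_of_le_of_card_ge (fun x hx => by
        have : (⟨x, hx⟩ : L) ∈ L'.subgroupOf L := h ▸ mem_top _
        exact this) hc.le).symm
  set K : Subgroup G := L.map Y.subtype with hK
  have hKY : K ≤ Y := map_subtype_le L
  have hKn : K.Normal := by
    refine ⟨fun x hx g => ?_⟩
    obtain ⟨l, hl, rfl⟩ := hx
    exact ⟨MulAut.conjNormal g l, hLchar g ⟨l, hl, rfl⟩, MulAut.conjNormal_apply g l⟩
  have hKne : K ≠ ⊥ := by
    rwa [hK, Ne, Subgroup.map_eq_bot_iff_of_injective _ Y.subtype_injective]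
  have hinvK := hinvN K hKn hKne
  have hKC : centralizer (K : Set G) = ⊥ := by
    set C := centralizer (K : Set G)
    have hCY : C ⊓ Y = ⊥ := by
      rw [eq_bot_iff]
      rintro c ⟨hc, hcY⟩
      have : (⟨c, hcY⟩ : Y) ∈ centralizer (L : Set Y) := mem_centralizer_iff.2 fun y hy =>
        Subtype.ext (mem_centralizer_iff.1 hc y ⟨y, hy, rfl⟩)
      rw [hLC, mem_bot] at this
      exact mem_bot.2 (congrArg Subtype.val this)
    rw [eq_bot_iff]
    intro c hc
    by_contra hne
    rw [mem_bot] at hne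
    have hcc : c * c = 1 := by
      rw [← mem_bot, ← hCY]
      exact ⟨mul_mem hc hc, (mul_mem_iff_of_index_two hY).2 Iff.rfl⟩
    have : c ∈ C ⊓ Y := ⟨hc, hinvY c (orderOf_eq_prime (by rw [sq, hcc]) hne)⟩
    rw [hCY, mem_bot] at this
    exact hne this
  obtain ⟨eL⟩ : Nonempty (L ≃* K) := ⟨L.equivMapOfInjective _ Y.subtype_injective⟩
  rcases hL with ⟨F, iF, iT, hodd, h3F, ⟨eF⟩⟩ | hA
  swap
  · -- `A₇`
    exfalso
    obtain ⟨eA⟩ := hA
    obtain ⟨a, b, ha, hb, hab⟩ := altSeven_six
    set e := (eL.symm.trans eA).symm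
    exact hno (e a) (e b) (by rw [Subgroup.orderOf_coe, MulEquiv.orderOf_eq, ha])
      (by rw [Subgroup.orderOf_coe, MulEquiv.orderOf_eq, hb])
      (by rw [← Subgroup.coe_mul, ← map_mul, hab, map_mul, Subgroup.coe_mul])
  set e : K ≃* Matrix.ProjectiveSpecialLinearGroup (Fin 2) F := eL.symm.trans eF with he
  set q := Fintype.card F with hq
  have hcardK : 2 * Nat.card K = q * ((q - 1) * (q + 1)) := by
    rw [Nat.card_congr e.toEquiv, ← PSLOrderSpectrum.card_psl_two, ← hq,
      Nat.gcd_eq_left (Nat.dvd_of_mod_eq_zero (by rcases hodd with ⟨k, hk⟩; omega))]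
  by_cases h3q : 3 ∣ q
  · -- characteristic three
    obtain ⟨p, -, f, hp, hcard⟩ := FiniteField.card' F
    rw [← hq] at hcard
    have hp3 : p = 3 := ((Nat.prime_dvd_prime_iff_eq Nat.prime_three hp).1
      (Nat.prime_three.dvd_of_dvd_pow (hcard ▸ h3q))).symm
    have hf2 : 2 ≤ (f : ℕ) := by
      by_contra hlt
      have : (f : ℕ) = 1 := by have := f.pos; omega
      rw [hp3, this] at hcard
      omega
    have h9 : 9 ∣ q := by rw [hcard, hp3]; exact pow_dvd_pow 3 hf2
    refine dvd_trans ?_ (Subgroup.card_subgroup_dvd_card K)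
    refine (Nat.Coprime.dvd_mul_left (by norm_num : Nat.Coprime 9 2)).1 ?_
    rw [hcardK]
    exact dvd_mul_of_dvd_left h9 _
  exfalso
  -- the centralizer of the central involution
  have hz : orderOf (D.z : G) = 2 := by rw [Subgroup.orderOf_coe]; exact D.orderOf_z
  set τ := e ⟨(D.z : G), hinvK _ hz⟩ with hτ'
  have hτ : orderOf τ = 2 := by rw [hτ', MulEquiv.orderOf_eq, Subgroup.orderOf_mk, hz]
  obtain ⟨p₀, _, X, _, hT⟩ := GW.Count.exists_torus hodd (MulEquiv.refl _) hτ
  set c := Nat.card (centralizer ({τ} : Set (Matrix.ProjectiveSpecialLinearGroup (Fin 2) F))) with hc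
  have h8c : 8 ∣ c := by
    let φ : D.half 0 →* centralizer ({τ} : Set (Matrix.ProjectiveSpecialLinearGroup (Fin 2) F)) :=
      { toFun := fun s => ⟨e ⟨(s : G), hhalf K hinvK s s.2⟩, mem_centralizer_singleton_iff.2 (by
          rw [hτ', ← map_mul, ← map_mul]
          exact congrArg e (Subtype.ext ((congrArg Subtype.val (D.mem_center_z (s : (S : Subgroup G))).eq).symm.trans rfl)))⟩
        map_one' := Subtype.ext (map_one e)
        map_mul' := fun a b => Subtype.ext (show _ = e _ * e _ from map_mul e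
          ⟨((a : (S : Subgroup G)) : G), hhalf K hinvK _ a.2⟩ ⟨((b : (S : Subgroup G)) : G), hhalf K hinvK _ b.2⟩) }
    have hφ : Function.Injective φ := fun a b h => by
      have h1 := e.injective (congrArg Subtype.val h)
      exact Subtype.ext (Subtype.ext (congrArg (fun k : K => (k : G)) h1))
    have h2 := Subgroup.card_dvd_of_injective φ hφ
    rw [D.card_half] at h2
    exact (Nat.pow_dvd_pow 2 hn).trans h2
  have h3c : ¬ 3 ∣ c := by
    intro h
    haveI : Fact (Nat.Prime 3) := ⟨Nat.prime_three⟩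
    obtain ⟨b, hb⟩ := exists_prime_orderOf_dvd_card' 3 h
    rw [← Subgroup.orderOf_coe] at hb
    have hbt := mem_centralizer_singleton_iff.1 b.2
    refine hno (e.symm τ) (e.symm b) (by rw [Subgroup.orderOf_coe, MulEquiv.orderOf_eq, hτ])
      (by rw [Subgroup.orderOf_coe, MulEquiv.orderOf_eq, hb]) ?_
    rw [← Subgroup.coe_mul, ← map_mul, ← hbt, map_mul, Subgroup.coe_mul]
  have hcases : (q % 8 = 1 ∧ q % 3 = 2) ∨ (q % 8 = 7 ∧ q % 3 = 1) := by
    have h3' : q % 3 ≠ 0 := fun h => h3q (Nat.dvd_of_mod_eq_zero h)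
    rcases hT.natCard_cent_cases with h | h
    · rw [← hc, ← hq] at h; omega
    · rw [← hc, ← hq] at h; omega
  have hnsq : ∀ k : ℕ, q ≠ k * k := by
    intro k hk
    rcases hcases with ⟨-, h⟩ | ⟨h, -⟩
    · rw [hk, Nat.mul_mod] at h
      have : k % 3 < 3 := Nat.mod_lt _ (by norm_num)
      interval_cases (k % 3) <;> omega
    · rw [hk, Nat.mul_mod] at h
      have : k % 8 < 8 := Nat.mod_lt _ (by norm_num)
      interval_cases (k % 8) <;> omega
  -- an element of order four outside
  have hq1Y : (D.q 1 : G) ∉ Y := by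
    intro hin
    have hall : (S : Subgroup G) ≤ Y := by
      intro s hs
      by_cases h : (⟨s, hs⟩ : (S : Subgroup G)) ∈ D.half 0
      · exact hhalf Y hinvY _ h
      · have h1 : D.q 1 ∉ D.half 0 := fun h1 => D.not_even_one (by
          have := D.q_mem_half.1 h1
          rwa [sub_zero] at this)
        have h2 : D.q 1 * ⟨s, hs⟩ ∈ D.half 0 :=
          (mul_mem_iff_of_index_two (D.index_half 0)).2 ⟨fun a => absurd a h1, fun a => absurd a h⟩
        have h3 := hhalf Y hinvY _ h2
        rw [Subgroup.coe_mul] at h3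
        exact (Y.mul_mem_cancel_left hin).1 h3
    have := Subgroup.index_dvd_of_le hall
    rw [hY] at this
    exact S.not_dvd_index this
  set y : G := (D.q 1 : G) with hy
  have hyy : y * y = (D.z : G) := by rw [hy, ← Subgroup.coe_mul, D.q_mul_self_odd D.not_even_one]
  set β := MulAut.congr e (MulAut.conjNormal y) with hβ'
  have hβ : β * β = MulAut.conj τ := by
    rw [hβ', ← map_mul, ← map_mul, hyy]
    refine MulEquiv.ext fun x => ?_
    show e (MulAut.conjNormal (D.z : G) (e.symm x)) = τ * x * τ⁻¹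
    obtain ⟨x, rfl⟩ := e.surjective x
    rw [MulEquiv.symm_apply_apply, hτ', ← map_mul, ← map_inv, ← map_mul]
    exact congrArg e (Subtype.ext (MulAut.conjNormal_apply _ _))
  obtain ⟨a, ha⟩ := inner_of_sq hodd h3F
    (by rcases hcases with ⟨h, -⟩ | ⟨h, -⟩ <;> rw [← hq] <;> omega)
    (by rw [← hq]; exact hnsq) hτ hβ
  have hl : ((e.symm a : K) : G)⁻¹ * y ∈ centralizer (K : Set G) := by
    refine mem_centralizer_iff.2 fun k hk => ?_
    have h1 : MulAut.conjNormal y (⟨k, hk⟩ : K) = e.symm a * ⟨k, hk⟩ * (e.symm a)⁻¹ := by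
      apply e.injective
      have h2 := congrArg (fun f : MulAut _ => f (e ⟨k, hk⟩)) ha
      simp only [hβ', MulAut.conj_apply] at h2
      rw [map_mul, map_mul, map_inv, MulEquiv.apply_symm_apply]
      simpa [MulAut.congr] using h2
    have h3 : y * k * y⁻¹ = (e.symm a : K) * k * ((e.symm a : K) : G)⁻¹ := by
      have := congrArg Subtype.val h1
      rwa [MulAut.conjNormal_apply] at this
    calc k * (((e.symm a : K) : G)⁻¹ * y)
        = ((e.symm a : K) : G)⁻¹ * ((e.symm a : K) * k * ((e.symm a : K) : G)⁻¹) * y := by group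
      _ = _ := by rw [← h3]; group
  rw [hKC, mem_bot, inv_mul_eq_one] at hl
  exact hq1Y (hl ▸ hKY (e.symm a).2)

/-- **The core step.** -/
theorem nine_dvd_index (S : Sylow 2 G) (hS : Cfsg.IsQuasiDihedral (S : Subgroup G))
    (hone : ∀ a b : G, orderOf a = 2 → orderOf b = 2 → IsConj a b)
    (t : G) (ht : orderOf t = 2) (h3 : ¬ 3 ∣ Nat.card (centralizer ({t} : Set G)))
    (W : Subgroup G) [W.Normal] (hW : Odd (Nat.card W)) : 9 ∣ W.index := by
  haveI : Fact (Nat.Prime 2) := ⟨Nat.prime_two⟩
  set O := Cfsg.oddCore G with hO'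
  have hOodd : Odd (Nat.card O) := Cores.oddCore_odd
  refine dvd_trans ?_ (Subgroup.index_dvd_of_le (Cores.le_oddCore hW))
  rw [Subgroup.index_eq_card]
  set π := QuotientGroup.mk' O with hπ
  have hπs : Function.Surjective π := QuotientGroup.mk'_surjective O
  obtain ⟨P⟩ := (inferInstance : Nonempty (Sylow 2 (G ⧸ O)))
  obtain ⟨R, ⟨eR⟩⟩ := GW.Cons.sylow_map_equiv_of_odd_ker hπs
    (by rw [hπ, QuotientGroup.ker_mk']; exact hOodd) P
  obtain ⟨D⟩ := exists_gens hS
  let D' := Involutions.CentralizerInvolution.mapQ D ((S.equiv R).trans eR)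
  have hP : Cfsg.IsQuasiDihedral (P : Subgroup (G ⧸ O)) :=
    ⟨D'.n, D'.hn, D'.hcard, D'.x, D'.y, D'.hx, D'.hy, D'.hxy⟩
  have hlift : ∀ a : G ⧸ O, orderOf a = 2 → ∃ g : G, orderOf g = 2 ∧ π g = a := by
    intro a ha
    obtain ⟨g, rfl⟩ := hπs a
    have h2 : g * g ∈ O := by
      refine (QuotientGroup.eq_one_iff _).1 ?_
      show π (g * g) = 1
      rw [map_mul, ← sq, ← ha, pow_orderOf_eq_one]
    have hu : π (g ^ Nat.card O) = π g := by
      obtain ⟨k, hk⟩ := hOodd
      rw [map_pow, hk, pow_succ, pow_mul, ← ha, pow_orderOf_eq_one, one_pow, one_mul]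
    refine ⟨g ^ Nat.card O, orderOf_eq_prime ?_ ?_, hu⟩
    · rw [← pow_mul, mul_comm, pow_mul, sq]
      have h := pow_card_eq_one' (x := (⟨g * g, h2⟩ : O))
      exact congrArg Subtype.val h
    · intro h
      rw [h, map_one] at hu
      rw [← hu, orderOf_one] at ha
      exact absurd ha (by decide)
  refine dvd_card_of_coreFree (InvChar.Core.oddCore_quotient_oddCore_eq_bot) P hP (fun a b ha hb => ?_) (π t) ?_ ?_
  · obtain ⟨g, hg, rfl⟩ := hlift a ha
    obtain ⟨h, hh, rfl⟩ := hlift b hb
    exact π.map_isConj (hone g h hg hh)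
  · refine orderOf_eq_prime (by rw [sq, ← map_mul, Involutions.Basic.inv_sq_one ht, map_one]) fun h => ?_
    have h1 := orderOf_dvd_natCard (⟨t, (QuotientGroup.eq_one_iff t).1 h⟩ : O)
    rw [Subgroup.orderOf_mk, ht] at h1
    exact Nat.not_odd_iff_even.2 (even_iff_two_dvd.2 h1) hOodd
  · intro h
    haveI : Fact (Nat.Prime 3) := ⟨Nat.prime_three⟩
    obtain ⟨b, hb⟩ := exists_prime_orderOf_dvd_card' 3 h
    rw [← Subgroup.orderOf_coe] at hb
    obtain ⟨g, hg, hgt⟩ := GW.ConsDGroup.exists_lift O hOodd ht b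
      (mem_centralizer_singleton_iff.1 b.2)
    refine h3 (dvd_trans ?_ (orderOf_dvd_natCard
      (⟨g, mem_centralizer_singleton_iff.2 hgt⟩ : centralizer ({t} : Set G))))
    rw [Subgroup.orderOf_mk, ← hb, ← hg]
    exact orderOf_map_dvd π g

/-- One class of involutions, from a non-central involution of `S` conjugate to a central one. -/
theorem one_class (S : Sylow 2 G) (hS : Cfsg.IsQuasiDihedral (S : Subgroup G)) {u v : (S : Subgroup G)}
    (hu : orderOf u = 2) (hv : orderOf v = 2) (huc : u ∉ center (S : Subgroup G))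
    (hvc : v ∈ center (S : Subgroup G)) (huv : IsConj (u : G) v) :
    ∀ a b : G, orderOf a = 2 → orderOf b = 2 → IsConj a b := by
  haveI : Fact (Nat.Prime 2) := ⟨Nat.prime_two⟩
  obtain ⟨D⟩ := exists_gens hS
  have hvz : v = D.z := by
    rcases D.eq_center (fun a => (mem_center_iff.1 hvc a).symm) with h | h
    · rw [h, orderOf_one] at hv; exact absurd hv (by decide)
    · exact h
  obtain ⟨i, hi, hui⟩ : ∃ i, Even i ∧ u = D.q i := by
    rcases D.eq_of_orderOf_two hu with h | h
    · exact absurd (mem_center_iff.2 fun a => (D.mem_center_z a).eq.symm) (h ▸ huc)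
    · exact h
  have key : ∀ a : G, orderOf a = 2 → IsConj a (D.z : G) := by
    intro a ha
    obtain ⟨P, hP⟩ := (IsPGroup.of_card (G := zpowers a) (p := 2) (n := 1)
      (by rw [Nat.card_zpowers, ha, pow_one])).exists_le_sylow
    obtain ⟨g, hg⟩ := MulAction.exists_smul_eq G P S
    have hmem : g * a * g⁻¹ ∈ (S : Subgroup G) := by
      rw [← hg, Sylow.coe_subgroup_smul]
      exact Subgroup.smul_mem_pointwise_smul a (MulAut.conj g) _ (hP (mem_zpowers a))
    have hconj : IsConj a (g * a * g⁻¹) := isConj_iff.2 ⟨g, rfl⟩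
    have hord : orderOf (⟨g * a * g⁻¹, hmem⟩ : (S : Subgroup G)) = 2 := by
      rw [Subgroup.orderOf_mk, ← MulAut.conj_apply, MulEquiv.orderOf_eq, ha]
    rcases D.eq_of_orderOf_two hord with h | ⟨j, hj, h⟩
    · have h' : g * a * g⁻¹ = (D.z : G) := congrArg Subtype.val h
      exact h' ▸ hconj
    · have h' : g * a * g⁻¹ = (D.q j : G) := congrArg Subtype.val h
      obtain ⟨k, hk⟩ := D.isConj_q (i := j) (j := i) (hi.sub hj)
      have h2 : IsConj (g * a * g⁻¹) (u : G) := isConj_iff.2 ⟨(D.P k : G), by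
        rw [h', hui, ← hk]; rfl⟩
      exact (hconj.trans h2).trans (hvz ▸ huv)
  exact fun a b ha hb => (key a ha).trans (key b hb).symm

end Cfsg.Agent.AmalgamThree.CoreOne
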