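import Cfsg.Agent.Lib.GW.OvergroupsAut
import Cfsg.Agent.Lib.GW.ConsPSLInvolution
import Cfsg.Agent.Lib.GW.CountTorusPSL
import Cfsg.Agent.Lib.GW.ConsDGroupPSL
import Cfsg.Agent.Lib.PSLOrderSpectrum.Main

/-!
Automorphisms of `PSL(2, q)` whose square is an inner involution, for `2` a square and the field of
odd degree: they are inner.
-/

set_option autoImplicit false
set_option linter.unusedSectionVars false

namespace Cfsg.Agent.AmalgamThree.CoreOne

open Matrix Subgroup

universe u

variable {F : Type u} [Field F] [Fintype F]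

local notation "PG" => Matrix.ProjectiveSpecialLinearGroup (Fin 2) F
local notation "M2" => Matrix (Fin 2) (Fin 2) F
local notation "gA" => AutPSL.Basic.gAut (n := 2) (F := F)

/-- A diagonal automorphism whose square is an involution is inner when `2` is a square. -/
theorem gAut_inner (h2 : (2 : F) ≠ 0) {s : F} (hs : s * s = 2) (g : GL (Fin 2) F)
    (h1 : gA g * gA g ≠ 1) (h4 : gA g * gA g * (gA g * gA g) = 1) : gA g ∈ Cfsg.Inn PG := by
  rw [← map_mul] at h1 h4
  rw [← map_mul] at h4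
  set h : GL (Fin 2) F := g * g with hh
  obtain ⟨l, hl⟩ := (GW.OvergroupsPSL.mem_center_iff _).1
    ((AutPSL.Out.gAut_eq_one_iff le_rfl (h * h)).1 h4)
  rw [Units.val_mul] at hl
  have hns : ∀ c : F, (h : M2) ≠ c • (1 : M2) := fun c hc => h1 (GW.Cons.gAut_scalar hc)
  have htr : (h : M2).trace = 0 := by
    by_contra hne
    have e := GW.Cons.cayley_two (h : M2)
    rw [hl, eq_sub_iff_add_eq, ← add_smul] at e
    refine hns (((h : M2).trace)⁻¹ * (l + (h : M2).det)) ?_
    rw [mul_smul, e, smul_smul, inv_mul_cancel₀ hne, one_smul]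
  have hgg : (g : M2).trace * (g : M2).trace - 2 * (g : M2).det = 0 := by
    have e := congrArg Matrix.trace (GW.Cons.cayley_two (g : M2))
    rw [← Units.val_mul, ← hh, htr, Matrix.trace_sub, Matrix.trace_smul, Matrix.trace_smul,
      Matrix.trace_one, Fintype.card_fin, smul_eq_mul, smul_eq_mul] at e
    push_cast at e
    linear_combination -e
  have hs0 : s ≠ 0 := fun h0 => h2 (by rw [← hs, h0, mul_zero])
  have hd : (g : M2).det ≠ 0 := by
    intro h0
    exact (Matrix.GeneralLinearGroup.det g).ne_zero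
      (by rw [Matrix.GeneralLinearGroup.val_det_apply]; exact h0)
  have hd' : (g : M2).det = ((g : M2).trace * s⁻¹) ^ 2 := by
    field_simp
    linear_combination -hgg + (g : M2).det * hs
  have hc0 : (g : M2).trace * s⁻¹ ≠ 0 := fun h0 => hd (by rw [hd', h0, zero_pow two_ne_zero])
  exact (AutPSL.Diag.gAut_mem_inn_iff le_rfl g).2 ⟨Units.mk0 _ hc0, by rw [Units.val_mk0]; exact hd'.symm⟩

/-- An automorphism whose square is inner by an involution is inner, when `2` is a square and the
degree of the field is odd. -/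
theorem inner_of_sq (hodd : Odd (Fintype.card F)) (hq : 3 < Fintype.card F)
    (h8 : Fintype.card F % 8 = 1 ∨ Fintype.card F % 8 = 7)
    (hnsq : ∀ k : ℕ, Fintype.card F ≠ k * k) {β : MulAut PG} {τ : PG} (hτ : orderOf τ = 2)
    (hβ : β * β = MulAut.conj τ) : ∃ a : PG, β = MulAut.conj a := by
  have h2 : (2 : F) ≠ 0 := Classical.SylowSL2.two_ne_zero_of_odd hodd
  obtain ⟨p, -, f, hp, hcard⟩ := FiniteField.card' F
  have := Fact.mk hp
  have hf : Odd (f : ℕ) := by
    rcases Nat.even_or_odd (f : ℕ) with ⟨k, hk⟩ | h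
    · exact absurd (by rw [hcard, hk, pow_add]) (hnsq (p ^ k))
    · exact h
  obtain ⟨ψ, hψ, hψc, -⟩ := GW.OvergroupsPSL.exists_field_hom_iff (F := F)
  obtain ⟨e⟩ := AutPSL.Out.exists_ringAut_equiv (F := F) hcard
  have hψ1 : ψ β = 1 := by
    have h1 : ψ β ^ 2 = 1 := by rw [sq, ← map_mul, hβ, hψc]
    have h3 : ψ β ^ (f : ℕ) = 1 := e.injective (by
      rw [map_pow, map_one]
      have h := pow_card_eq_one' (x := e (ψ β))
      rwa [Nat.card_congr Multiplicative.toAdd, Nat.card_zmod] at h)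
    have h5 := orderOf_dvd_of_pow_eq_one h1
    have h6 := orderOf_dvd_of_pow_eq_one h3
    have h7 := Nat.dvd_gcd h5 h6
    rw [Nat.coprime_two_left.2 hf] at h7
    exact orderOf_eq_one_iff.1 (Nat.dvd_one.1 h7)
  obtain ⟨g, rfl⟩ := (hψ β).1 hψ1
  have hτ1 : MulAut.conj τ ≠ 1 := fun h =>
    absurd hτ (by
      rw [(GW.ConsDGroup.conj_injective hq) (h.trans (map_one _).symm), orderOf_one]; decide)
  obtain ⟨s, hs⟩ := FiniteField.isSquare_two_iff.2 (show Fintype.card F % 8 ≠ 3 ∧ Fintype.card F % 8 ≠ 5 by omega)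
  obtain ⟨a, ha⟩ := gAut_inner h2 hs.symm g (by rw [hβ]; exact hτ1)
    (by
      have h := pow_orderOf_eq_one τ
      rw [hτ, sq] at h
      rw [hβ, ← map_mul, h, map_one])
  exact ⟨a, ha.symm⟩

end Cfsg.Agent.AmalgamThree.CoreOne
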